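import Cfsg.Agent.Fi23Mult.W2.FactsData
import Cfsg.Agent.Fi23Mult.W2.JustData
import Cfsg.Agent.Fi23Mult.W2.TableData
import Cfsg.Prelude.Def_Spor_Fi23
import Cfsg.Agent.CosetCert.Pack

/-! Generated: the certificate. -/

namespace Cfsg.Agent.Fi23Mult.W2

open Cfsg.Agent.CosetCert

noncomputable def data : Data where
  K := 1
  n := 2
  M := 1
  Nf := 1
  nR := 3
  iv := fun x => x
  F := get48 factStore
  J := getVar justStore
  E := get48 edgeStore
  L := get48 repStore
  P := get48 treeStore
  W := [
    [0, 0],
    [],
    [0, 0]]
  PW := fun k => Nat.land (Nat.shiftRight 0x210000000000000000000000000000000000000000000000000000000000000000000000000000000000000000000000000000000000000000000000000000000000000000000000000000000000000000000000000000000000000000000000000000000000000000000000000000000000000000000000000000000000000021 (Nat.mul 512 k)) 13407807929942597099574024998205846127479365820592393377723561443721764030073546976801874298166903427690031858186486050853753882811946569946433649006084095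
  powers := [
    ([0], 2),
    ([], 0),
    ([0], 2)]

/-- The relators of the subgroup's presentation. -/
def relWords : List (List (Fin 1 × Bool)) := [
    [(0, true), (0, true)]]

/-- The subgroup's generators. -/
def subLetters : List (Fin 1) := []

/-- The numbering of the generators. -/
def enc (b : Fin 1) : Nat := b.val

/-- The generator of a number. -/
def dec (x : Nat) : Fin 1 × Bool := (Fin.ofNat 1 x, true)

/-- The generators among those of the whole group. -/
def ren : Fin 1 → Cfsg.Spor.Fi23.Gen
  | ⟨0, _⟩ => .b

end Cfsg.Agent.Fi23Mult.W2
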